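import Cfsg.Agent.H531.CY.Disp
import Cfsg.Agent.H99.CY.CntFl
import Cfsg.Agent.H941.CY.Three
import Cfsg.Agent.H205.CY.DOne
import Cfsg.Agent.H829.CY.ChiThree
import Cfsg.Agent.H125.CY.Asm
import Cfsg.Agent.H598.CY.IsoOne
import Cfsg.Agent.H776.CY.Noncyc
import Cfsg.Agent.H776.CY.Congr

/-!
# S4829, row PSL (helper531)

* `counts` : the numbers of fixed flags modulo `p` (helper99, helper941, helper205);
* `rowA_of` : the row from a virtual permutation character on the flags (helper125's criterion);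
* `rowA_psl` : the row for `PSL_n(q)`, `n ≥ 3`, `p` odd, `p ∤ q`, noncyclic Sylow `p`-subgroups;
* `rowForAN_psl`.
-/

set_option autoImplicit false
set_option linter.unusedSectionVars false

open Matrix Module Subgroup Cfsg

namespace Cfsg.Agent.H531.CY

open Cfsg.Agent.H666.CY Cfsg.Agent.H770.CY Cfsg.Agent.H145.BR

universe u

section counts

variable {p : ℕ} [hp : Fact p.Prime] {F : Type u} [Field F] {n : ℕ} [Fintype F]

local notation "𝔡" => orderOf (Fintype.card F : ZMod p)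

/-- `d ≥ 2` : `p ∤ q - 1` -/
theorem not_dvd_of (hd : 2 ≤ 𝔡) : ¬ p ∣ Fintype.card F - 1 := by
  intro h
  have h1 : 1 ≤ Fintype.card F := Fintype.card_pos
  rw [← ZMod.natCast_eq_zero_iff, Nat.cast_sub h1, Nat.cast_one, sub_eq_zero] at h
  rw [h, orderOf_one] at hd
  omega

/-- `d = 1` : `p ∣ q - 1` -/
theorem dvd_of (hd : 𝔡 = 1) : p ∣ Fintype.card F - 1 := by
  have h1 : 1 ≤ Fintype.card F := Fintype.card_pos
  rw [← ZMod.natCast_eq_zero_iff, Nat.cast_sub h1, Nat.cast_one, sub_eq_zero]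
  exact orderOf_eq_one_iff.1 hd

/-- the fixed flags in helper941's form -/
theorem card_FC [Finite F] (a : A0 F n) (k l : ℕ) :
    Nat.card (H941.CY.FC (lat a) k l) = Nat.card (MulAction.fixedBy (Fl F n k l) a) := by
  refine Nat.card_congr
    { toFun := fun x => ⟨⟨(⟨x.1.1, x.2.1.2.1⟩, ⟨x.1.2, x.2.1.2.2⟩), x.2.1.1⟩,
        Subtype.ext (Prod.ext (Subtype.ext x.2.2.1) (Subtype.ext x.2.2.2))⟩
      invFun := fun x => ⟨(x.1.1.1.1, x.1.1.2.1), ⟨x.1.2, x.1.1.1.2, x.1.1.2.2⟩,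
        congrArg (fun y : Fl F n k l => y.1.1.1) x.2, congrArg (fun y : Fl F n k l => y.1.2.1) x.2⟩
      left_inv := fun _ => rfl
      right_inv := fun _ => rfl }

/-- the three-step congruence -/
theorem three_step (hd2 : 2 ≤ 𝔡) (ho : Odd 𝔡) (he : Even (n % 𝔡))
    (Q : Sylow p (ProjectiveSpecialLinearGroup (Fin n) F)) (a : A0 F n)
    (hc : ∀ x ∈ Q, (a : MulAut (ProjectiveSpecialLinearGroup (Fin n) F)) x = x) :
    (Nat.card (MulAction.fixedBy (Fl F n 1 (n % 𝔡 + 2)) a) : ZMod p) -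
      Nat.card (MulAction.fixedBy (Fl F n 1 (n % 𝔡 + 1)) a) -
      Nat.card (MulAction.fixedBy (Fl F n 0 (n % 𝔡 + 2)) a) +
      Nat.card (MulAction.fixedBy (Fl F n 0 (n % 𝔡)) a) = 1 := by
  rw [← card_FC, ← card_FC, ← card_FC, ← card_FC]
  have h1 : orderOf (Nat.card F : ZMod p) = 𝔡 := by rw [Nat.card_eq_fintype_card]
  refine H941.CY.values_three h1 hd2 ho he Q (lat a) (finrank_lat a) fun s hs U => ?_
  exact lat_comm a (s := s) (t := s) (hc _ hs).symm U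

/-- **the numbers of flags fixed by a type preserving automorphism which centralizes a Sylow `p`-subgroup** -/
theorem counts (hp2 : p ≠ 2) (hn : 3 ≤ n) (hpF : (p : F) ≠ 0) (h2d : 2 * 𝔡 ≤ n)
    (Q : Sylow p (ProjectiveSpecialLinearGroup (Fin n) F)) (a : A0 F n)
    (hc : ∀ x ∈ Q, (a : MulAut (ProjectiveSpecialLinearGroup (Fin n) F)) x = x) :
    Counts p n 𝔡 (fun k l => (Nat.card (MulAction.fixedBy (Fl F n k l) a) : ZMod p)) where
  zero := by
    show (Nat.card (MulAction.fixedBy (Fl F n 0 0) a) : ZMod p) = 1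
    rw [H99.CY.cnt_zero, Nat.cast_one]
  pt := by
    show (Nat.card (MulAction.fixedBy (Fl F n 1 1) a) : ZMod p) = Nat.card (MulAction.fixedBy (Fl F n 0 1) a)
    rw [H99.CY.card_fl_self]
  res := fun hd => H99.CY.cnt_res (by omega) hpF (not_dvd_of hd) Q a hc
  succ := fun hd h => H99.CY.cnt_succ (by omega) hpF (not_dvd_of hd) h (by omega) Q a hc
  three := fun hd ho he => three_step hd ho he Q a hc
  blk := fun hd h => H99.CY.cnt_blk hp2 (by omega) hpF (not_dvd_of hd) h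
    ((Nat.one_le_div_iff (by omega)).2 (by omega)) Q a hc
  one := fun hd => H205.CY.counts_one hp2 hn hpF (dvd_of hd) Q hc

end counts

section row

variable {p : ℕ} [hp : Fact p.Prime] {F : Type u} [Field F] {n : ℕ} [Fintype F]

local notation "𝔡" => orderOf (Fintype.card F : ZMod p)
local notation "𝔖" => ProjectiveSpecialLinearGroup (Fin n) F

instance finite_fl (k l : ℕ) : Finite (Fl F n k l) := inferInstance

/-- **the row from a virtual permutation character on the flags** -/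
theorem rowA_of [Fintype 𝔖] [IsSimpleGroup 𝔖] (hnc : ¬ IsMulCommutative 𝔖) (hn : 2 ≤ n) {J : Type} [Fintype J]
    (k l : J → ℕ) (ε : J → ℤ) {j : ℕ} (hj : j ≤ n) (χ : IrrCharacter 𝔖) (hχ1 : (χ : 𝔖 → ℂ) ≠ (fun _ => 1))
    (hχ : ∀ s, (χ : 𝔖 → ℂ) s = ∑ i, (ε i : ℂ) * permC 𝔖 (Fl F n (k i) (l i)) s)
    (hY : classInner (permC 𝔖 (Fl F n j (n - j))) (χ : 𝔖 → ℂ) = 1)
    (hinv : ∀ (a : MulAut 𝔖) (s : 𝔖), (χ : 𝔖 → ℂ) (a s) = (χ : 𝔖 → ℂ) s)
    (c : ZMod p) (hc0 : c ≠ 0)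
    (hc : ∀ (Q : Sylow p 𝔖) (a : A0 F n), (∀ x ∈ Q, (a : MulAut 𝔖) x = x) →
      ∑ i, (ε i : ZMod p) * (Nat.card (MulAction.fixedBy (Fl F n (k i) (l i)) a) : ZMod p) = c) : RowA p 𝔖 := by
  intro A hA M hM
  have hfin : Finite (MulAut 𝔖) := inferInstance
  have : Finite A := inferInstance
  have := Fintype.ofFinite A
  have hfix : ∀ (k l : ℕ) (s : 𝔖), Nat.card (MulAction.fixedBy (Fl F n k l) (inn s)) =
      Nat.card (MulAction.fixedBy (Fl F n k l) s) := by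
    intro k l s
    refine Nat.card_congr (Equiv.subtypeEquivRight fun x => ?_)
    rw [MulAction.mem_fixedBy, MulAction.mem_fixedBy, inn_smul_fl]
  let act : MulAction (MulAut 𝔖) (Fl F n j (n - j)) := dualAct hn hj
  have hact : ∀ (a : MulAut 𝔖) (y : Fl F n j (n - j)), a • y = dualFun hn hj a y := fun _ _ => rfl
  have hfx : ∀ s : 𝔖, Nat.card (MulAction.fixedBy (Fl F n j (n - j)) (MulAut.conj s)) =
      Nat.card (MulAction.fixedBy (Fl F n j (n - j)) s) := by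
    intro s
    have h3 : ∀ y : Fl F n j (n - j), MulAut.conj s • y = s • y := fun y => dualFun_conj hn hj s y
    refine Nat.card_congr (Equiv.subtypeEquivRight fun x => ?_)
    rw [MulAction.mem_fixedBy, MulAction.mem_fixedBy, h3]
  have hY' : classInner (fun s : 𝔖 => permC (MulAut 𝔖) (Fl F n j (n - j)) (MulAut.conj s)) (χ : 𝔖 → ℂ) = 1 := by
    rw [← hY]
    congr 1
    funext s
    show (Nat.card (MulAction.fixedBy (Fl F n j (n - j)) (MulAut.conj s)) : ℂ) =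
      (Nat.card (MulAction.fixedBy (Fl F n j (n - j)) s) : ℂ)
    rw [hfx]
  have hχ' : ∀ s, (χ : 𝔖 → ℂ) s =
      ((H125.CY.vp (fun i => Fl F n (k i) (l i)) ε (H598.CY.inn (A := A0 F n) conj_mem_A0 s) : ℤ) : ℂ) := by
    intro s
    rw [hχ, H125.CY.vp]
    push_cast
    refine Finset.sum_congr rfl fun i _ => ?_
    have h1 := hfix (k i) (l i) s
    have h2 : permC 𝔖 (Fl F n (k i) (l i)) s = (Nat.card (MulAction.fixedBy (Fl F n (k i) (l i)) s) : ℂ) := rfl
    rw [h2, ← h1]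
    rfl
  have hcyc : Cyc p (χ : 𝔖 → ℂ) :=
    H598.CY.cyc_of_int (Characters.Core.isIrr_isCharacter χ.2) fun g => ⟨_, hχ' g⟩
  obtain ⟨Ψ, h3, h4, h5⟩ := H598.CY.iso_one_aut hnc hA.1 (Fl F n j (n - j)) χ hY' (fun a _ => hinv a) hcyc
  refine H125.CY.witA_of_virt hnc hM hA (B := A0 F n) conj_mem_A0 (fun a b ha hb => A0_two hn ha hb)
    (fun i => Fl F n (k i) (l i)) ε (Y := Fl F n j (n - j)) ?_ ?_ χ hχ1 hχ' hY' hinv c hc0 ?_
    ⟨Ψ, h3, h4, by rw [h5]; exact one_ne_zero⟩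
  · intro i i' a x y
    obtain ⟨g, h1, h2⟩ := orbital hn a x y
    refine ⟨g, ?_, ?_⟩
    · rw [← h1]
      exact inn_smul_fl g x
    · rw [← h2]
      exact inn_smul_fl g y
  · intro i a x y
    obtain ⟨g, h1, h2⟩ := orbital hn a x y
    refine ⟨g, ?_, ?_⟩
    · rw [← h1]
      exact inn_smul_fl g x
    · rw [hact, hact, dualFun_conj, dualFun_eq, h2]
  · intro Q a ha
    rw [← hc Q a ha, H125.CY.vp]
    push_cast
    rfl

/-- **`PSL_n(q)`, `n ≥ 3`, `p` odd, `p ∤ q`, noncyclic Sylow `p`-subgroups** -/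
theorem rowA_psl [Fintype 𝔖] [IsSimpleGroup 𝔖] (hnc : ¬ IsMulCommutative 𝔖) (hp2 : p ≠ 2) (hn : 3 ≤ n)
    (hpF : (p : F) ≠ 0) (h2d : 2 * 𝔡 ≤ n) : RowA p 𝔖 := by
  have hd : 1 ≤ 𝔡 := orderOf_pos_of hpF
  rcases dispatch hp2 hn hd h2d
    (fun (x : {x : Sylow p 𝔖 × A0 F n // ∀ y ∈ x.1, (x.2 : MulAut 𝔖) y = y}) k l =>
      (Nat.card (MulAction.fixedBy (Fl F n k l) x.1.2) : ZMod p))
    (fun x => counts hp2 hn hpF h2d x.1.1 x.1.2 x.2) with
    ⟨k, j, c, hc, h1k, h2k, hj, hcnt⟩ | ⟨m, b, j, c, hc, h1b, hbm, hmn, hbj, hcnt⟩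
  · obtain ⟨χ, h1, h2, h3, -, h4, h5⟩ := H829.CY.chi_two (F := F) hn h1k h2k
    refine rowA_of hnc (by omega) (J := Fin 2) ![0, 0] ![k, k - 1] ![1, -1] (j := j) (by omega) χ h1 ?_ ?_ h3 c hc ?_
    · intro s
      rw [h2, Fin.sum_univ_two]
      change _ = ((1 : ℤ) : ℂ) * permC 𝔖 (Fl F n 0 k) s + ((-1 : ℤ) : ℂ) * permC 𝔖 (Fl F n 0 (k - 1)) s
      push_cast
      ring
    · rcases hj with hj | hj
      · exact h4 j hj
      · exact h5 j hj
    · intro Q a ha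
      rw [← hcnt ⟨(Q, a), ha⟩, Fin.sum_univ_two]
      change ((1 : ℤ) : ZMod p) * (Nat.card (MulAction.fixedBy (Fl F n 0 k) a) : ZMod p) +
        ((-1 : ℤ) : ZMod p) * (Nat.card (MulAction.fixedBy (Fl F n 0 (k - 1)) a) : ZMod p) =
        (Nat.card (MulAction.fixedBy (Fl F n 0 k) a) : ZMod p) -
          (Nat.card (MulAction.fixedBy (Fl F n 0 (k - 1)) a) : ZMod p)
      push_cast
      ring
  · obtain ⟨χ, h1, h2, h3, -, h4⟩ := H829.CY.chi_three' (F := F) hn hbm hmn hbj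
    refine rowA_of hnc (by omega) (J := Fin 4) ![1, 1, 0, 0] ![b + 1, b, b + 1, b - 1] ![1, -1, -1, 1] (j := j)
      (by omega) χ h1 ?_ h4 h3 c hc ?_
    · intro s
      rw [h2, Fin.sum_univ_four]
      change _ = ((1 : ℤ) : ℂ) * permC 𝔖 (Fl F n 1 (b + 1)) s + ((-1 : ℤ) : ℂ) * permC 𝔖 (Fl F n 1 b) s +
        ((-1 : ℤ) : ℂ) * permC 𝔖 (Fl F n 0 (b + 1)) s + ((1 : ℤ) : ℂ) * permC 𝔖 (Fl F n 0 (b - 1)) s
      push_cast
      ring
    · intro Q a ha
      rw [← hcnt ⟨(Q, a), ha⟩, Fin.sum_univ_four]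
      change ((1 : ℤ) : ZMod p) * (Nat.card (MulAction.fixedBy (Fl F n 1 (b + 1)) a) : ZMod p) +
        ((-1 : ℤ) : ZMod p) * (Nat.card (MulAction.fixedBy (Fl F n 1 b) a) : ZMod p) +
        ((-1 : ℤ) : ZMod p) * (Nat.card (MulAction.fixedBy (Fl F n 0 (b + 1)) a) : ZMod p) +
        ((1 : ℤ) : ZMod p) * (Nat.card (MulAction.fixedBy (Fl F n 0 (b - 1)) a) : ZMod p) =
        (Nat.card (MulAction.fixedBy (Fl F n 1 (b + 1)) a) : ZMod p) -
          (Nat.card (MulAction.fixedBy (Fl F n 1 b) a) : ZMod p) -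
          (Nat.card (MulAction.fixedBy (Fl F n 0 (b + 1)) a) : ZMod p) +
          (Nat.card (MulAction.fixedBy (Fl F n 0 (b - 1)) a) : ZMod p)
      push_cast
      ring

end row

/-- **the row PSL of S4829**, noncyclic Sylow `p`-subgroups -/
theorem rowForAN_psl {p : ℕ} [hp : Fact p.Prime] (hp2 : p ≠ 2) :
    H776.CY.RowForAN p (fun X _ => ∃ (F : Type) (_ : Field F) (_ : Fintype F) (n : ℕ), (p : F) ≠ 0 ∧ 2 ≤ n ∧
      Nonempty (X ≃* Matrix.ProjectiveSpecialLinearGroup (Fin n) F)) := by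
  intro X _ _ _ hna hd hcyc ⟨F, _, _, n, hpF, hn, ⟨e⟩⟩
  have hfin : Finite (ProjectiveSpecialLinearGroup (Fin n) F) := Finite.of_equiv X e.toEquiv
  have := Fintype.ofFinite (ProjectiveSpecialLinearGroup (Fin n) F)
  have hs : IsSimpleGroup (ProjectiveSpecialLinearGroup (Fin n) F) := e.symm.isSimpleGroup
  have hna' : ¬ IsMulCommutative (ProjectiveSpecialLinearGroup (Fin n) F) := by
    intro h
    apply hna
    refine ⟨⟨fun a b => e.injective ?_⟩⟩
    rw [map_mul, map_mul]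
    exact h.is_comm.comm _ _
  obtain ⟨Q⟩ : Nonempty (Sylow p (ProjectiveSpecialLinearGroup (Fin n) F)) := inferInstance
  have hQ : ¬ IsCyclic Q := by
    intro h
    apply hcyc (Q.comapOfInjective e.toMonoidHom e.injective (by
      intro x _
      exact ⟨e.symm x, e.apply_symm_apply x⟩))
    exact isCyclic_of_injective (e.toMonoidHom.subgroupComap (Q : Subgroup _)) (by
      intro a b hab
      apply Subtype.ext
      apply e.injective
      exact congrArg Subtype.val hab)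
  refine H776.CY.RowA.congr e ?_
  rcases Nat.lt_or_ge 2 n with h3 | h3
  · exact rowA_psl hna' hp2 h3 hpF (two_mul_le hp2 hpF hQ)
  · exfalso
    obtain rfl : n = 2 := by omega
    exact hQ (isCyclic_two hp2 hpF Q)

end Cfsg.Agent.H531.CY
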