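import Cfsg.Agent.H124.LinCyc
import Cfsg.Agent.S0262

/-!
# S4829, row PSL: the dispatcher (helper531)

* `Counts p n d f` : the numbers modulo `p` of flags fixed by an automorphism of `PSL_n(q)` which centralizes a Sylow
  `p`-subgroup (`f k l` : flags `U_k ≤ U_l`, `d` the order of `q` modulo `p`);
* `dispatch` : the choice of the unipotent character, two rows `(n - k, k)` or three rows `(m, b, 1)`, and of the set
  of flags `U_j ≤ W_{n - j}`;
* `two_mul_le` : a noncyclic Sylow `p`-subgroup forces `2 d ≤ n`; `isCyclic_two` : `n = 2`.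
-/

set_option autoImplicit false

namespace Cfsg.Agent.H531.CY

/-- the numbers of fixed flags modulo `p` -/
structure Counts (p n d : ℕ) (f : ℕ → ℕ → ZMod p) : Prop where
  zero : f 0 0 = 1
  pt : f 1 1 = f 0 1
  res : 2 ≤ d → f 0 (n % d) = 1
  succ : 2 ≤ d → n % d + 1 < d → f 0 (n % d + 1) = 0
  three : 2 ≤ d → Odd d → Even (n % d) → f 1 (n % d + 2) - f 1 (n % d + 1) - f 0 (n % d + 2) + f 0 (n % d) = 1
  blk : 2 ≤ d → n % d + 1 = d →
    f 0 d = (n / d : ℕ) ∧ f 0 (2 * d - 1) = (n / d : ℕ) ∧ f 0 (2 * d) = ((n / d).choose 2 : ℕ)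
  one : d = 1 → f 0 1 = n ∧ f 0 2 = (n.choose 2 : ℕ) ∧ f 1 2 = n * (n - 1)

section arith

variable {p : ℕ} [hp : Fact p.Prime]

theorem two_ne (hp2 : p ≠ 2) : (2 : ZMod p) ≠ 0 := by
  intro h
  have h1 : ((2 : ℕ) : ZMod p) = 0 := by exact_mod_cast h
  rw [ZMod.natCast_eq_zero_iff] at h1
  exact hp2 ((Nat.prime_dvd_prime_iff_eq hp.out Nat.prime_two).1 h1)

theorem two_mul_choose (a : ℕ) : (2 : ZMod p) * ((a.choose 2 : ℕ) : ZMod p) = a * (a - 1) := by
  have h1 : a.choose 2 * 2 = a * (a - 1) := by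
    rw [Nat.choose_two_right]
    exact Nat.div_mul_cancel (Nat.even_mul_pred_self a).two_dvd
  rcases Nat.eq_zero_or_pos a with rfl | ha
  · simp
  · have h2 : ((a.choose 2 * 2 : ℕ) : ZMod p) = ((a * (a - 1) : ℕ) : ZMod p) := by rw [h1]
    push_cast [Nat.cast_sub (show 1 ≤ a from ha)] at h2
    rw [mul_comm]
    exact h2

theorem choose_eq_zero (hp2 : p ≠ 2) {a : ℕ} (ha : (a : ZMod p) = 1) : ((a.choose 2 : ℕ) : ZMod p) = 0 := by
  have h1 := two_mul_choose (p := p) a
  rw [ha, sub_self, mul_zero] at h1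
  exact (mul_eq_zero.1 h1).resolve_left (two_ne hp2)

theorem choose_eq_one (hp2 : p ≠ 2) {a : ℕ} (ha : (a : ZMod p) = 2) : ((a.choose 2 : ℕ) : ZMod p) = 1 := by
  have h1 := two_mul_choose (p := p) a
  rw [ha] at h1
  have h2 : (2 : ZMod p) * (((a.choose 2 : ℕ) : ZMod p) - 1) = 0 := by linear_combination h1
  exact sub_eq_zero.1 ((mul_eq_zero.1 h2).resolve_left (two_ne hp2))

/-- `a ≡ 1` modulo `p` and `a ≥ 2` imply `a ≥ 4` -/
theorem four_le (hp2 : p ≠ 2) {a : ℕ} (h2 : 2 ≤ a) (ha : (a : ZMod p) = 1) : 4 ≤ a := by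
  have h1 : ((a : ℕ) : ZMod p) = ((1 : ℕ) : ZMod p) := by rw [ha, Nat.cast_one]
  rw [ZMod.natCast_eq_natCast_iff] at h1
  have h3 := (Nat.modEq_iff_dvd' (by omega : 1 ≤ a)).1 h1.symm
  have h4 := Nat.le_of_dvd (by omega) h3
  have h5 := hp.out.two_le
  omega

/-- **The choice of the character.** -/
theorem dispatch {n d : ℕ} (hp2 : p ≠ 2) (hn : 3 ≤ n) (hd : 1 ≤ d) (ha : 2 * d ≤ n) {ι : Sort*}
    (f : ι → ℕ → ℕ → ZMod p) (hf : ∀ i, Counts p n d (f i)) :
    (∃ (k j : ℕ) (c : ZMod p), c ≠ 0 ∧ 1 ≤ k ∧ 2 * k ≤ n ∧ (2 * j = n ∨ 2 * j = k) ∧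
      ∀ i, f i 0 k - f i 0 (k - 1) = c) ∨
    (∃ (m b j : ℕ) (c : ZMod p), c ≠ 0 ∧ 1 ≤ b ∧ b ≤ m ∧ m + b + 1 = n ∧ b + 1 = 2 * j ∧
      ∀ i, f i 1 (b + 1) - f i 1 b - f i 0 (b + 1) + f i 0 (b - 1) = c) := by
  have hone : (1 : ZMod p) ≠ 0 := one_ne_zero
  have hmone : (-1 : ZMod p) ≠ 0 := neg_ne_zero.2 hone
  rcases Nat.lt_or_ge 1 d with hd2 | hd1
  · -- `d ≥ 2`
    have hd2 : 2 ≤ d := hd2
    set r := n % d with hr
    set a := n / d with hadef
    have hrd : r < d := Nat.mod_lt _ (by omega)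
    have hnd : d * a + r = n := Nat.div_add_mod n d
    have ha2 : 2 ≤ a := by
      by_contra hlt
      have h3 : a ≤ 1 := by omega
      have h4 : d * a ≤ d * 1 := Nat.mul_le_mul_left _ h3
      omega
    have h2d : 2 * d ≤ d * a := by
      have := Nat.mul_le_mul_left d ha2
      omega
    by_cases hcase : Odd n ∧ Even r
    · -- three rows
      right
      obtain ⟨hno, hre⟩ := hcase
      have hda : Odd (d * a) := by
        rw [← hnd] at hno
        rcases Nat.even_or_odd (d * a) with h1 | h1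
        · exact absurd (h1.add hre) (Nat.not_even_iff_odd.2 hno)
        · exact h1
      obtain ⟨hdo, hao⟩ := Nat.odd_mul.1 hda
      have ha3 : 3 ≤ a := by
        obtain ⟨t, ht⟩ := hao
        omega
      have h3d : 3 * d ≤ d * a := by
        have := Nat.mul_le_mul_left d ha3
        omega
      obtain ⟨s, hs⟩ := hre
      refine ⟨n - r - 2, r + 1, s + 1, 1, hone, by omega, by omega, by omega, by omega, fun i => ?_⟩
      exact (hf i).three hd2 hdo ⟨s, hs⟩
    · left
      -- `n` even or `r` odd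
      have hj : ∀ k, (k = r + 1 ∨ k = 2 * d) → ∃ j, 2 * j = n ∨ 2 * j = k := by
        intro k hk
        rcases Nat.even_or_odd n with ⟨t, ht⟩ | hno
        · exact ⟨t, Or.inl (by omega)⟩
        · have hro : Odd r := by
            rcases Nat.even_or_odd r with h1 | h1
            · exact absurd ⟨hno, h1⟩ hcase
            · exact h1
          obtain ⟨t, ht⟩ := hro
          rcases hk with hk | hk
          · exact ⟨t + 1, Or.inr (by omega)⟩
          · exact ⟨d, Or.inr (by omega)⟩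
      rcases Nat.lt_or_ge (r + 1) d with hr1 | hr1
      · obtain ⟨j, hj⟩ := hj (r + 1) (Or.inl rfl)
        refine ⟨r + 1, j, -1, hmone, by omega, by omega, hj, fun i => ?_⟩
        have h1 := (hf i).succ hd2 hr1
        have h2 := (hf i).res hd2
        rw [h1, Nat.add_sub_cancel, h2, zero_sub]
      · have hr1 : r + 1 = d := by omega
        by_cases ha1 : (a : ZMod p) = 1
        · obtain ⟨j, hj⟩ := hj (2 * d) (Or.inr rfl)
          have ha4 := four_le hp2 ha2 ha1
          have h4d : 4 * d ≤ d * a := by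
            have := Nat.mul_le_mul_left d ha4
            omega
          refine ⟨2 * d, j, -1, hmone, by omega, by omega, hj, fun i => ?_⟩
          obtain ⟨-, h2, h3⟩ := (hf i).blk hd2 hr1
          rw [h3, h2, ← hadef, choose_eq_zero hp2 ha1, ha1, zero_sub]
        · obtain ⟨j, hj⟩ := hj (r + 1) (Or.inl rfl)
          refine ⟨r + 1, j, (a : ZMod p) - 1, sub_ne_zero.2 ha1, by omega, by omega, hj, fun i => ?_⟩
          obtain ⟨h2, -, -⟩ := (hf i).blk hd2 hr1
          rw [Nat.add_sub_cancel, (hf i).res hd2, show n % d + 1 = d from hr1, h2]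
  · -- `d = 1`
    have hd1 : d = 1 := by omega
    rcases Nat.even_or_odd n with ⟨t, ht⟩ | hno
    · left
      by_cases hn1 : (n : ZMod p) = 1
      · refine ⟨2, t, -1, hmone, by omega, by omega, Or.inl (by omega), fun i => ?_⟩
        obtain ⟨h1, h2, -⟩ := (hf i).one hd1
        rw [h2, show 2 - 1 = 1 from rfl, h1, choose_eq_zero hp2 hn1, hn1, zero_sub]
      · refine ⟨1, t, (n : ZMod p) - 1, sub_ne_zero.2 hn1, by omega, by omega, Or.inl (by omega), fun i => ?_⟩
        obtain ⟨h1, -, -⟩ := (hf i).one hd1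
        rw [h1, show 1 - 1 = 0 from rfl, (hf i).zero]
    · by_cases hn12 : (n : ZMod p) = 1 ∨ (n : ZMod p) = 2
      · left
        have hn5 : 4 ≤ n := by
          by_contra hlt
          have hn3 : n = 3 := by omega
          rw [hn3] at hn12
          rcases hn12 with h | h
          · apply two_ne hp2
            have h3 : ((3 : ℕ) : ZMod p) = 2 + 1 := by norm_num
            rw [h3] at h
            linear_combination h
          · apply hone
            have h3 : ((3 : ℕ) : ZMod p) = 2 + 1 := by norm_num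
            rw [h3] at h
            linear_combination h
        refine ⟨2, 1, -1, hmone, by omega, by omega, Or.inr rfl, fun i => ?_⟩
        obtain ⟨h1, h2, -⟩ := (hf i).one hd1
        rw [h2, show 2 - 1 = 1 from rfl, h1]
        rcases hn12 with h | h
        · rw [choose_eq_zero hp2 h, h, zero_sub]
        · rw [choose_eq_one hp2 h, h]
          ring
      · right
        push Not at hn12
        refine ⟨n - 2, 1, 1, (n : ZMod p) * (n - 1) - n - ((n.choose 2 : ℕ) : ZMod p) + 1, ?_, le_rfl, by omega,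
          by omega, rfl, fun i => ?_⟩
        · intro h
          have h1 := two_mul_choose (p := p) n
          have h2 : ((n : ZMod p) - 1) * (n - 2) = 0 := by linear_combination 2 * h + h1
          rcases mul_eq_zero.1 h2 with h3 | h3
          · exact hn12.1 (sub_eq_zero.1 h3)
          · exact hn12.2 (sub_eq_zero.1 h3)
        · obtain ⟨h1, h2, h3⟩ := (hf i).one hd1
          rw [show 1 + 1 = 2 from rfl, show 1 - 1 = 0 from rfl, h3, (hf i).pt, h1, h2, (hf i).zero]

end arith

section cyclic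

variable {F : Type*} [Field F] [Fintype F] {p : ℕ} [hp : Fact p.Prime]

theorem orderOf_pos_of (hpF : (p : F) ≠ 0) : 0 < orderOf ((Fintype.card F : ℕ) : ZMod p) := by
  apply orderOf_pos_iff.2
  rw [isOfFinOrder_iff_isUnit]
  rw [isUnit_iff_ne_zero]
  intro h
  rw [ZMod.natCast_eq_zero_iff] at h
  obtain ⟨r, hr⟩ := CharP.exists F
  obtain ⟨k, hrp, hk⟩ := FiniteField.card F r
  rw [hk] at h
  have h1 := (Nat.prime_dvd_prime_iff_eq hp.out hrp).1 (hp.out.dvd_of_dvd_pow h)
  subst h1
  exact hpF (CharP.cast_eq_zero F p)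

/-- **small dimension: cyclic Sylow subgroups** -/
theorem isCyclic_of_lt {n : ℕ} (hp2 : p ≠ 2) (hpF : (p : F) ≠ 0)
    (h : n < 2 * orderOf ((Fintype.card F : ℕ) : ZMod p))
    (Q : Sylow p (Matrix.ProjectiveSpecialLinearGroup (Fin n) F)) : IsCyclic Q := by
  have hfin : Finite (Matrix.ProjectiveSpecialLinearGroup (Fin n) F) := Quotient.finite _
  have hq : 1 ≤ Fintype.card F := Fintype.card_pos
  refine H124.LinCyc.isCyclic_sylow_of_gl (F := F) (ι := Fin n) hp2 (orderOf_pos_of hpF) (fun j => ?_)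
    (by rw [Fintype.card_fin]; exact h)
    (Matrix.SpecialLinearGroup.toGL : Matrix.SpecialLinearGroup (Fin n) F →* _)
    Matrix.SpecialLinearGroup.toGL_injective
    (QuotientGroup.mk' (Subgroup.center (Matrix.SpecialLinearGroup (Fin n) F))) (QuotientGroup.mk'_surjective _) Q
  have h1 : 1 ≤ Fintype.card F ^ j := Nat.one_le_pow _ _ hq
  rw [orderOf_dvd_iff_pow_eq_one, ← ZMod.natCast_eq_zero_iff, Nat.cast_sub h1, Nat.cast_pow, Nat.cast_one,
    sub_eq_zero]

/-- **a noncyclic Sylow subgroup: at least two blocks** -/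
theorem two_mul_le {n : ℕ} (hp2 : p ≠ 2) (hpF : (p : F) ≠ 0)
    {Q : Sylow p (Matrix.ProjectiveSpecialLinearGroup (Fin n) F)} (h : ¬ IsCyclic Q) :
    2 * orderOf ((Fintype.card F : ℕ) : ZMod p) ≤ n :=
  not_lt.1 fun h1 => h (isCyclic_of_lt hp2 hpF h1 Q)

/-- `n = 2` -/
theorem isCyclic_two (hp2 : p ≠ 2) (hpF : (p : F) ≠ 0)
    (Q : Sylow p (Matrix.ProjectiveSpecialLinearGroup (Fin 2) F)) : IsCyclic Q := by
  have hfin : Finite (Matrix.ProjectiveSpecialLinearGroup (Fin 2) F) := Quotient.finite _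
  obtain ⟨r, hr⟩ := CharP.exists F
  obtain ⟨k, hrp, hk⟩ := FiniteField.card F r
  have : Fact r.Prime := ⟨hrp⟩
  have hpr : p ≠ r := by
    rintro rfl
    exact hpF (CharP.cast_eq_zero F p)
  have hs : Function.Surjective (QuotientGroup.mk' (Subgroup.center (Matrix.SpecialLinearGroup (Fin 2) F))) :=
    QuotientGroup.mk'_surjective _
  obtain ⟨P, hP⟩ := Sylow.mapSurjective_surjective hs p Q
  have hc := Cfsg.Agent.S0262.result (F := F) r p hp2 hpr P
  rw [← hP]
  change IsCyclic ((P : Subgroup _).map (QuotientGroup.mk' (Subgroup.center (Matrix.SpecialLinearGroup (Fin 2) F))))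
  exact isCyclic_of_surjective _
    ((QuotientGroup.mk' (Subgroup.center (Matrix.SpecialLinearGroup (Fin 2) F))).subgroupMap_surjective
      (P : Subgroup (Matrix.SpecialLinearGroup (Fin 2) F)))

end cyclic

end Cfsg.Agent.H531.CY
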